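import Groth.Agent.AcycCompLib.Criterion
import Groth.Agent.AcycFibLib.Five
import Groth.Agent.S0101

/-!
# Contractible schemes have the cohomology of a point
-/

set_option autoImplicit false
set_option linter.style.haveILetI false
set_option backward.isDefEq.respectTransparency false
set_option backward.isDefEq.respectTransparency.types false
set_option maxHeartbeats 800000

universe u

open CategoryTheory CategoryTheory.Limits AlgebraicGeometry Opposite Abelian

attribute [local instance] Groth.Agent.S0101.result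

noncomputable section

namespace Groth.Agent.HomotopyLib

variable {X P T : Scheme.{u}}

/-- A composite pullback vanishes when the total one does. -/
theorem Hpull_Hpull_eq_zero {A B C : Scheme.{u}} (g : B ⟶ A) (f : C ⟶ B) (h : C ⟶ A) (w : f ≫ g = h)
    (F : EtCoh.Ab A) (q : ℕ) (x : EtCoh.H A F q) (hx : EtCore.Hpull h F q x = 0) :
    EtCore.Hpull f _ q (EtCore.Hpull g F q x) = 0 := by
  refine (congrFun (AcycCompLib.Hpull_comp g f h w F q) x).symm.trans ?_
  show ((EtCoh.HF C q).map _).hom (EtCore.Hpull h F q x) = 0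
  rw [hx, map_zero]

/-- The total pullback vanishes when the composite does. -/
theorem Hpull_eq_zero_of_comp {A B C : Scheme.{u}} (g : B ⟶ A) (f : C ⟶ B) (h : C ⟶ A) (w : f ≫ g = h)
    (F : EtCoh.Ab A) (q : ℕ) (x : EtCoh.H A F q) (hx : EtCore.Hpull f _ q (EtCore.Hpull g F q x) = 0) :
    EtCore.Hpull h F q x = 0 := by
  haveI := EtLimLib.isIso_comparePull g f h w F
  refine (ConcreteCategory.bijective_of_isIso ((EtCoh.HF C q).map ((EtLimLib.comparePull g f h w).app F))).1 ?_
  rw [map_zero]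
  exact (congrFun (AcycCompLib.Hpull_comp g f h w F q) x).trans hx

/-- A class killed by restriction to the point at which the scheme contracts is zero. -/
theorem eq_zero_of_contract (ρ : X ⟶ P) (ε : P ⟶ X) (h g : T ⟶ X) (s₀ s₁ : X ⟶ T)
    (hs₀ : s₀ ≫ g = 𝟙 X) (h₀ : s₀ ≫ h = ρ ≫ ε) (h₁ : s₁ ≫ h = 𝟙 X) (F : EtCoh.Ab X)
    (e : (EtCoh.pull h).obj F ≅ (EtCoh.pull g).obj F) (q : ℕ) (hg : Function.Bijective (EtCore.Hpull g F q))
    (x : EtCoh.H X F q) (hx : EtCore.Hpull ε F q x = 0) : x = 0 := by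
  obtain ⟨z, hz⟩ := hg.2 (((EtCoh.HF T q).map e.hom).hom (EtCore.Hpull h F q x))
  have hidinj : Function.Injective (EtCore.Hpull (𝟙 X) F q) := (AcycCompLib.bijective_Hpull_of_isIso (𝟙 X) F q).1
  have hc : EtCore.Hpull (ρ ≫ ε) F q x = 0 :=
    Hpull_eq_zero_of_comp ε ρ _ rfl F q x (by rw [hx, map_zero])
  have hs : EtCore.Hpull s₀ _ q (EtCore.Hpull h F q x) = 0 := Hpull_Hpull_eq_zero h s₀ _ h₀ F q x hc
  have hnat : EtCore.Hpull s₀ _ q (((EtCoh.HF T q).map e.hom).hom (EtCore.Hpull h F q x)) = 0 := by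
    refine (AcycFibLib.Hpull_comp_mk₀ s₀ e.hom q (EtCore.Hpull h F q x)).trans ?_
    rw [hs, Ext.zero_comp]
  have hz0 : z = 0 := hidinj ((Hpull_eq_zero_of_comp g s₀ _ hs₀ F q z (by rw [hz]; exact hnat)).trans (map_zero _).symm)
  have hh : EtCore.Hpull h F q x = 0 := by
    refine (ConcreteCategory.bijective_of_isIso ((EtCoh.HF T q).map e.hom)).1 ?_
    rw [map_zero]
    refine hz.symm.trans ?_
    rw [hz0, map_zero]
  exact hidinj ((Hpull_eq_zero_of_comp h s₁ _ h₁ F q x (by rw [hh, map_zero])).trans (map_zero _).symm)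

/-- Restriction to a retract is surjective on classes pulled back from it. -/
theorem surjective_Hpull_retract (ρ : X ⟶ P) (ε : P ⟶ X) (hρ : ε ≫ ρ = 𝟙 P) (G : EtCoh.Ab P) (F : EtCoh.Ab X)
    (e : (EtCoh.pull ρ).obj G ≅ F) (q : ℕ) : Function.Surjective (EtCore.Hpull ε F q) := fun y => by
  have hb := (AcycCompLib.bijective_Hpull_comp_iff ρ ε (𝟙 P) hρ G q).1 (AcycCompLib.bijective_Hpull_of_isIso (𝟙 P) G q)
  obtain ⟨z, hz⟩ := hb.2 (((EtCoh.HF P q).map ((EtCoh.pull ε).map e.inv)).hom y)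
  refine ⟨((EtCoh.HF X q).map e.hom).hom (EtCore.Hpull ρ G q z), ?_⟩
  refine (AcycFibLib.Hpull_comp_mk₀ ε e.hom q (EtCore.Hpull ρ G q z)).trans ?_
  refine (congrArg (((EtCoh.HF P q).map ((EtCoh.pull ε).map e.hom)).hom) hz).trans ?_
  rw [← ConcreteCategory.comp_apply, ← Functor.map_comp, ← Functor.map_comp, Iso.inv_hom_id,
    CategoryTheory.Functor.map_id, CategoryTheory.Functor.map_id]
  rfl

end Groth.Agent.HomotopyLib
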